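import Mathlib.RingTheory.PicardGroup
import Groth.Agent.ModGroth.StalkTensor
import Groth.Agent.InvBasic.OfBasis
import Groth.Agent.InvPow.DualBasis
import Groth.Agent.ProjUniv.AffineBase

/-!
# A module with a tensor inverse is invertible
-/

set_option autoImplicit false
universe u
open CategoryTheory CategoryTheory.Limits Opposite MonoidalCategory TopologicalSpace AlgebraicGeometry
open scoped TensorProduct

namespace Groth.Agent.InvTensor

open ModGroth ModGroth.Stalk InvBasic

variable {X : Scheme.{u}}

theorem bijective_smul_of_pairing {R M N : Type u} [CommRing R] [AddCommGroup M] [Module R M]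
    [AddCommGroup N] [Module R N] (G : M ⊗[R] N ≃ₗ[R] R) (m : M) (n : N) (h : IsUnit (G (m ⊗ₜ n))) :
    Function.Bijective fun c : R => c • m := by
  haveI : Module.Invertible R M := Module.Invertible.left G
  let ψ : M →ₗ[R] R := G.toLinearMap ∘ₗ (TensorProduct.mk R M N).flip n
  have hψ : ∀ a : M, ψ a = G (a ⊗ₜ n) := fun _ => rfl
  have hsurj : Function.Surjective ψ := fun r => by
    obtain ⟨v, hv⟩ := h
    refine ⟨(r * (↑v⁻¹ : R)) • m, ?_⟩
    rw [map_smul, hψ, ← hv, smul_eq_mul, mul_assoc, Units.inv_mul, mul_one]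
  have hbij : Function.Bijective ψ := Module.Invertible.bijective_of_surjective hsurj
  have hcomp : Function.Bijective fun c : R => ψ (c • m) := by
    obtain ⟨v, hv⟩ := h
    have he : (fun c : R => ψ (c • m)) = fun c => c * (v : R) := funext fun c => by
      rw [map_smul, hψ, ← hv, smul_eq_mul]
    rw [he]
    exact v.mulRight_bijective
  exact (Function.Bijective.of_comp_iff' hbij _).1 hcomp

theorem exists_unit_pair {R M N : Type u} [CommRing R] [IsLocalRing R] [AddCommGroup M] [Module R M]
    [AddCommGroup N] [Module R N] (G : M ⊗[R] N ≃ₗ[R] R) : ∃ (m : M) (n : N), IsUnit (G (m ⊗ₜ n)) := by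
  by_contra hc
  have : ∀ z, G z ∈ IsLocalRing.maximalIdeal R := fun z => by
    induction z using TensorProduct.induction_on with
    | zero => rw [map_zero]; exact zero_mem _
    | tmul a b => exact (IsLocalRing.mem_maximalIdeal _).2 fun hu => hc ⟨a, b, hu⟩
    | add p q hp hq => rw [map_add]; exact add_mem hp hq
  refine (IsLocalRing.mem_maximalIdeal _).1 (this (G.symm 1)) ?_
  rw [G.apply_symm_apply]
  exact isUnit_one

theorem isInvertible_of_tensor (L N : X.Modules)
    (e : CohB1.tensorMod L N ≅ Coh.structureModule X) : PicF.IsInvertible L := by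
  refine isInvertible_of_isBasis fun x => ?_
  let T := ((DCoh.tensorBi (X := X)).obj L).obj N
  let e' : T ⟶ Coh.structureModule X := e.hom
  haveI : IsIso e' := inferInstanceAs (IsIso e.hom)
  let one := fun y : X => (Coh.structureModule X).presheaf.germ ⊤ y trivial (InvPow.oneSec X ⊤)
  have hone : ∀ y : X, Function.Bijective fun c : X.presheaf.stalk y => c • one y := fun y =>
    (InvPow.isBasis_oneSec (X := X) ⊤).stalk_bijective trivial
  let E : ∀ y : X, X.presheaf.stalk y ≃ₗ[X.presheaf.stalk y] (Coh.structureModule X).presheaf.stalk y :=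
    fun y => LinearEquiv.ofBijective (LinearMap.toSpanSingleton (X.presheaf.stalk y) _ (one y)) (hone y)
  let G : ∀ y : X, st (toPres.obj L) y ⊗[stR X.presheaf y] st (toPres.obj N) y ≃ₗ[stR X.presheaf y]
      X.presheaf.stalk y := fun y =>
    (LinearEquiv.ofBijective (tensorComparison y L N).hom (bijective_tensorComparison y L N)).trans
      ((LinearEquiv.ofBijective ((DerSch.stalkFunctor X y).map e').hom
        ((ConcreteCategory.isIso_iff_bijective _).1 inferInstance)).trans
        (E y).symm)
  obtain ⟨a, b, hab⟩ := exists_unit_pair (G x)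
  obtain ⟨U, hx, m, n, rfl, rfl⟩ := exists_pair (toPres.obj L) (toPres.obj N) a b
  let σ : Γ(T, U) := (eta (O := X.sheaf) (toPres.obj L ⊗ toPres.obj N)).app (op U)
    (tm' (toPres.obj L) (toPres.obj N) m n)
  obtain ⟨r, hr⟩ := (InvPow.isBasis_oneSec (X := X) ⊤ U le_top).2 (e'.app U σ)
  have hG : ∀ (y : X) (hy : y ∈ U), G y (gm (toPres.obj L) hy m ⊗ₜ gm (toPres.obj N) hy n) =
      X.presheaf.germ U y hy r := by
    intro y hy
    apply (E y).injective
    refine Eq.trans ((E y).apply_symm_apply _) ?_
    refine (congrArg ((DerSch.stalkFunctor X y).map e') (tensorComparison_gm y L N hy m n)).trans ?_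
    refine (DerSch.stalkFunctor_map_germ y e' U hy σ).trans ?_
    refine Eq.trans (congrArg _ hr.symm) ?_
    refine (InvBasic.germ_smul _ U y hy r _).trans ?_
    exact congrArg (X.presheaf.germ U y hy r • ·) (TopCat.Presheaf.germ_res_apply _ _ _ _ _)
  have hxr : IsUnit (X.presheaf.germ U x hx r) := hG x hx ▸ hab
  refine ⟨X.basicOpen r, (X.mem_basicOpen r x hx).2 hxr,
    L.presheaf.map (homOfLE (X.basicOpen_le r)).op (show Γ(L, U) from m),
    ProjUniv.isBasis_of_stalk _ fun y hy => ?_⟩
  have hyU : y ∈ U := X.basicOpen_le r hy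
  have hu : IsUnit (G y (gm (toPres.obj L) hyU m ⊗ₜ gm (toPres.obj N) hyU n)) := by
    rw [hG]; exact (X.mem_basicOpen r y hyU).1 hy
  rw [TopCat.Presheaf.germ_res_apply]
  exact bijective_smul_of_pairing (G y) _ _ hu

end Groth.Agent.InvTensor
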